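import Cfsg.Agent.H841.PiBS.DescP
import Cfsg.Agent.H555.RV.Tools
import Cfsg.Agent.J4Type.InvFix
import Cfsg.Agent.SporadicA.M24Trans

/-!
# `M24` has no subgroup of order `2 ^ 10 * p`, `p = 5, 11, 23` (helper768)

`no_sub` : such a subgroup `H` has orbits of size 8 or 16 on the 24 points; a Sylow `p`-subgroup `P` fixes an orbit of size 8
pointwise (for `p = 5` it would have three fixed points there, and `N_H(P)` is transitive on them); but `P` fixes at most 4 points.
-/

set_option autoImplicit false

namespace Cfsg.Agent.H768.RV.MTF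

open Subgroup Cfsg MulAction

/-- the normalizer of a Sylow subgroup is transitive on its fixed points -/
theorem exists_normalizer {H X : Type*} [Group H] [Finite H] [MulAction H X] {p : ℕ} [Fact p.Prime] (P : Sylow p H)
    {a b : X} (ha : ∀ x ∈ (P : Subgroup H), x • a = a) (hb : ∀ x ∈ (P : Subgroup H), x • b = b) {g : H} (hg : g • a = b) :
    ∃ n ∈ normalizer ((P : Subgroup H) : Set H), n • a = b := by
  obtain ⟨s, hs, e⟩ := H841.PiBSr.exists_conj_in (H := stabilizer H b) P (fun x hx => mem_stabilizer_iff.2 (hb x hx))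
    (g := g) (by
      rintro _ ⟨x, hx, rfl⟩
      rw [mem_stabilizer_iff]
      show (g * x * g⁻¹) • b = b
      rw [← hg, ← mul_smul, inv_mul_cancel_right, mul_smul, ha x hx])
  refine ⟨s * g, ?_, ?_⟩
  · rw [mem_normalizer_iff]
    intro x
    have h1 : (s * g) * x * (s * g)⁻¹ ∈ (P : Subgroup H).map (MulAut.conj (s * g)).toMonoidHom ↔ x ∈ (P : Subgroup H) := by
      constructor
      · rintro ⟨y, hy, e1⟩
        have e2 : (s * g) * y * (s * g)⁻¹ = (s * g) * x * (s * g)⁻¹ := e1
        rwa [← mul_left_cancel (mul_right_cancel e2)]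
      · intro hx
        exact ⟨x, hx, rfl⟩
    rw [e] at h1
    exact h1.symm
  · rw [mul_smul, hg]
    exact hs

theorem card_pt : Nat.card GolayPt = 24 := by
  rw [Nat.card_eq_fintype_card]
  decide +kernel

theorem card_M24 : Nat.card M24 = 244823040 := Cfsg.Agent.SporadicA.M24Trans.card_M24

instance finM : Finite M24 := Nat.finite_of_card_ne_zero (by rw [card_M24]; norm_num)

/-- the order of a point stabiliser -/
theorem card_stab (a : GolayPt) : Nat.card (stabilizer M24 a) = 10200960 := by
  have h5 := Cfsg.Agent.SporadicA.M24Trans.five_transitive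
  have h1 : IsPretransitive M24 GolayPt := by
    have h2 := isMultiplyPretransitive_of_le (G := M24) (α := GolayPt) (m := 1) (n := 5) (by norm_num) (by
      rw [card_pt]; norm_num)
    exact (is_one_pretransitive_iff).1 h2
  have h2 := (stabilizer M24 a).card_mul_index
  rw [index_stabilizer_of_transitive, card_pt, card_M24] at h2
  omega

/-- **the theorem** -/
theorem no_sub {H : Subgroup M24} {p : ℕ} (hp : p.Prime) (hp5 : p = 5 ∨ p = 11 ∨ p = 23) (hH : Nat.card H = 2 ^ 10 * p) :
    False := by
  have hfp : Fact p.Prime := ⟨hp⟩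
  have hf2 : Fact (Nat.Prime 2) := ⟨Nat.prime_two⟩
  have h3 : ¬ 3 ∣ Nat.card H := by
    rw [hH]
    rcases hp5 with rfl | rfl | rfl <;> norm_num
  -- the orbits
  have horb : ∀ a : GolayPt, (stabilizer H a).index = 8 ∨ (stabilizer H a).index = 16 := by
    intro a
    have h1 : Nat.card (stabilizer H a) ∣ 10200960 := by
      rw [← card_stab a]
      have e : stabilizer H a = (stabilizer M24 a).subgroupOf H := by
        ext x
        rw [mem_subgroupOf, mem_stabilizer_iff, mem_stabilizer_iff]
        rfl
      rw [e]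
      have := card_subgroup_dvd_card ((stabilizer M24 a).subgroupOf H)
      have h2 : Nat.card ((stabilizer M24 a).subgroupOf H) = Nat.card (stabilizer M24 a ⊓ H : Subgroup M24) := by
        rw [← subgroupOf_map_subtype]
        exact Nat.card_congr (((stabilizer M24 a).subgroupOf H).equivMapOfInjective H.subtype H.subtype_injective).toEquiv
      rw [h2]
      exact card_dvd_of_le inf_le_left
    have h2 := (stabilizer H a).card_mul_index
    rw [hH] at h2
    have h4 : (stabilizer H a).index ≤ 24 := by
      rw [index_stabilizer, ← card_pt]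
      exact Nat.card_le_card_of_injective _ Subtype.val_injective
    have h8 : 8 ∣ (stabilizer H a).index := by
      have h5 : ¬ 2 ^ 8 ∣ Nat.card (stabilizer H a) := fun h => by
        have := h.trans h1
        norm_num at this
      have h6 : 2 ^ 10 ∣ Nat.card (stabilizer H a) * (stabilizer H a).index := by rw [h2]; exact Nat.dvd_mul_right _ _
      have h7 : ∃ x y, x + y = 10 ∧ 2 ^ x ∣ Nat.card (stabilizer H a) ∧ 2 ^ y ∣ (stabilizer H a).index := by
        obtain ⟨u, v, hu, hv, e⟩ := (Nat.dvd_mul).1 h6
        obtain ⟨x, -, rfl⟩ := (Nat.dvd_prime_pow Nat.prime_two).1 (Dvd.intro _ e)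
        obtain ⟨y, -, rfl⟩ := (Nat.dvd_prime_pow Nat.prime_two).1 (Dvd.intro_left _ e)
        rw [← pow_add] at e
        exact ⟨x, y, Nat.pow_right_injective le_rfl e, hu, hv⟩
      obtain ⟨x, y, hxy, hx, hy⟩ := h7
      have h9 : x < 8 := by
        by_contra h10
        exact h5 ((pow_dvd_pow 2 (by omega)).trans hx)
      exact (pow_dvd_pow 2 (by omega : 3 ≤ y)).trans hy
    have h5 : (stabilizer H a).index ≠ 0 := index_ne_zero_of_finite
    have h6 : (stabilizer H a).index ≠ 24 := by
      intro h7
      apply h3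
      rw [hH, ← h2, h7]
      exact Dvd.dvd.mul_left (by norm_num) _
    omega
  -- an orbit of size 8
  obtain ⟨a, ha⟩ : ∃ a : GolayPt, (stabilizer H a).index = 8 := by
    by_contra hcon
    push Not at hcon
    have h1 : 16 ∣ Nat.card GolayPt := H555.RV.dvd_card_of_index (G := H) fun x => by
      rw [(horb x).resolve_left (hcon x)]
    rw [card_pt] at h1
    norm_num at h1
  obtain ⟨P⟩ : Nonempty (Sylow p H) := inferInstance
  have hPp : p ∣ Nat.card (P : Subgroup H) := P.dvd_card_of_dvd_card (by rw [hH]; exact Nat.dvd_mul_left _ _)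
  let Δ := orbit H a
  have hΔ : Nat.card Δ = 8 := by rw [← ha, index_stabilizer]; rfl
  -- the fixed points on the orbit
  have h1 : Nat.card Δ ≡ Nat.card (fixedPoints P Δ) [MOD p] := P.isPGroup'.card_modEq_card_fixedPoints Δ
  have h2 : Nat.card (fixedPoints P Δ) ≤ 8 := by
    rw [← hΔ]
    exact Nat.card_le_card_of_injective _ Subtype.val_injective
  rw [hΔ] at h1
  have h4 : Nat.card (fixedPoints P Δ) = 8 ∨ (p = 5 ∧ Nat.card (fixedPoints P Δ) = 3) := by
    rcases hp5 with rfl | rfl | rfl
    · have : 8 % 5 = Nat.card (fixedPoints P Δ) % 5 := h1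
      omega
    · have : 8 % 11 = Nat.card (fixedPoints P Δ) % 11 := h1
      omega
    · have : 8 % 23 = Nat.card (fixedPoints P Δ) % 23 := h1
      omega
  have h5 : Nat.card (fixedPoints P Δ) = 8 := by
    rcases h4 with h4 | ⟨-, h4⟩
    · exact h4
    · exfalso
      -- the normalizer is transitive on the fixed points
      have hne : Nonempty (fixedPoints P Δ) := by
        rw [← not_isEmpty_iff]
        intro h
        rw [Nat.card_of_isEmpty] at h4
        omega
      obtain ⟨⟨b, hb⟩⟩ := hne
      have hb' : ∀ x ∈ (P : Subgroup H), x • b = b := fun x hx => hb ⟨x, hx⟩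
      let N : Subgroup H := normalizer ((P : Subgroup H) : Set H)
      have hN : (orbit N b) = fixedPoints P Δ := by
        ext c
        constructor
        · rintro ⟨⟨n, hn⟩, rfl⟩ ⟨x, hx⟩
          show x • n • b = n • b
          have h6 : n⁻¹ * x * n ∈ (P : Subgroup H) := by
            have := (mem_normalizer_iff.1 (N.inv_mem hn) x).1 hx
            rwa [inv_inv] at this
          have h7 := hb' _ h6
          calc x • n • b = n • (n⁻¹ * x * n) • b := by rw [← mul_smul, ← mul_smul]; congr 1; group
            _ = n • b := by rw [h7]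
        · intro hc
          obtain ⟨g, hg⟩ : ∃ g : H, g • b = c := by
            obtain ⟨x, hx⟩ := b.2
            obtain ⟨y, hy⟩ := c.2
            refine ⟨y * x⁻¹, Subtype.ext ?_⟩
            show (y * x⁻¹) • (b : GolayPt) = c
            rw [← hx, ← hy]
            show (y * x⁻¹) • x • a = y • a
            rw [← mul_smul, inv_mul_cancel_right]
          obtain ⟨n, hn, e⟩ := exists_normalizer P hb' (fun x hx => hc ⟨x, hx⟩) hg
          exact ⟨⟨n, hn⟩, e⟩
      have h6 : 3 ∣ Nat.card N := by
        have h7 : (stabilizer N b).index = 3 := by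
          rw [index_stabilizer, ← h4, ← hN]
          rfl
        rw [← h7]
        exact index_dvd_card _
      exact h3 (h6.trans (card_subgroup_dvd_card N))
  -- so `P` fixes the orbit
  have h6 : ∀ x ∈ (P : Subgroup H), ∀ c : Δ, x • c = c := by
    intro x hx c
    have h7 : fixedPoints P Δ = Set.univ := by
      have h9 : (fixedPoints P Δ).ncard = Nat.card Δ := by rw [hΔ]; exact h5
      exact (Set.eq_univ_iff_ncard _).2 h9
    have h8 : c ∈ fixedPoints P Δ := by rw [h7]; trivial
    exact h8 ⟨x, hx⟩
  classical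
  have hfin : Finite Δ := inferInstance
  let s : Finset GolayPt := Set.toFinset (Δ : Set GolayPt)
  have hs : s.card = 8 := by
    rw [← hΔ, Set.toFinset_card, Nat.card_eq_fintype_card]
  obtain ⟨s', hs', hs5⟩ := Finset.exists_subset_card_eq (show 5 ≤ s.card by omega)
  have hle : (P : Subgroup H).map H.subtype ≤ fixingSubgroup M24 (s' : Set GolayPt) := by
    rintro _ ⟨x, hx, rfl⟩
    rw [mem_fixingSubgroup_iff]
    intro y hy
    exact congrArg Subtype.val (h6 x hx ⟨y, Set.mem_toFinset.1 (hs' hy)⟩)
  have h7 := card_dvd_of_le hle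
  rw [J4Type.InvFix.card_fix_five hs5, card_map_of_injective H.subtype_injective] at h7
  have h8 := hPp.trans h7
  rcases hp5 with rfl | rfl | rfl <;> norm_num at h8

end Cfsg.Agent.H768.RV.MTF
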