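import Cfsg.Agent.H768.RV.Fac
import Cfsg.Agent.H768.RV.MTF
import Cfsg.Agent.H827.JFi
import Cfsg.Agent.H565.TwoLoc
import Cfsg.Agent.H565.LargeInv
import Cfsg.Agent.H16.NunFi24
import Cfsg.Agent.KFacts.FiTF.SheetF
import Cfsg.Agent.H573.Hall.Lib

/-!
# `Fi24'` has no Hall `{2,p}`-subgroup dominating all `{2,p}`-subgroups, `p ≥ 5` (helper768)

`no2_fi24` : `¬ Dom {2, p} S` for `S ≅ Fi24'` and every prime `p ≥ 5` dividing `|S|`.
-/

set_option autoImplicit false
set_option exponentiation.threshold 4000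

namespace Cfsg.Agent.H768.RV.FiTF

open Subgroup Cfsg Cfsg.Spor Cfsg.Agent.H571.DExt Cfsg.Agent.H988.CPi Cfsg.Agent.H171.Odd
open Cfsg.Agent.H565 Cfsg.Agent.H827
open scoped Pointwise

universe u v

/-- transport of `Dom` -/
theorem dom_congr {π : Set ℕ} {G : Type u} {H : Type v} [Group G] [Group H] (e : G ≃* H) (h : Dom π G) : Dom π H := by
  obtain ⟨L, hL, hdom⟩ := h
  refine ⟨L.map e.toMonoidHom, ⟨?_, ?_⟩, fun K hK => ?_⟩
  · intro p hp hd
    rw [card_map_of_injective e.injective] at hd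
    exact hL.1 p hp hd
  · intro p hp hpπ hd
    rw [index_map_of_bijective e.bijective] at hd
    exact hL.2 p hp hpπ hd
  · obtain ⟨g, hg⟩ := hdom (K.comap e.toMonoidHom) (by
      have h1 : Nat.card (K.comap e.toMonoidHom) = Nat.card K := by
        rw [← card_map_of_injective (f := e.toMonoidHom) e.injective, map_comap_eq_self_of_surjective e.surjective]
      rw [h1]; exact hK)
    refine ⟨e g, fun x hx => ?_⟩
    obtain ⟨y, rfl⟩ := e.surjective x
    obtain ⟨w, hw, hwy⟩ := hg (show y ∈ K.comap e.toMonoidHom from hx)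
    refine ⟨e w, ⟨w, hw, rfl⟩, ?_⟩
    have h2 : g * w * g⁻¹ = y := hwy
    show e g * e w * (e g)⁻¹ = e y
    rw [← h2, map_mul, map_mul, map_inv]

theorem card_eq : Nat.card Spor.Fi24' = 1255205709190661721292800 := CocoD.card_eq

instance finF : Finite Spor.Fi24' := JFi.finite

theorem z_data {G : Type*} [Group G] [Finite G] {T Q : Subgroup G} {z : G} (h : TwoLoc.TwoLoc T Q z) (hT : T ≠ ⊥) :
    z ∈ T ∧ z * z = 1 ∧ ∀ t ∈ T, t * z = z * t := by
  have hf2 : Fact (Nat.Prime 2) := ⟨Nat.prime_two⟩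
  have hnt : Nontrivial T := (nontrivial_iff_ne_bot T).2 hT
  have h1 := h.two.center_nontrivial
  obtain ⟨⟨⟨x, hx⟩, hxc⟩, hx1⟩ := exists_ne (1 : center T)
  have hx1 : x ≠ 1 := fun e => hx1 (by subst e; rfl)
  have hxT : ∀ t ∈ T, t * x = x * t := fun t ht => congrArg Subtype.val (mem_center_iff.1 hxc ⟨t, ht⟩)
  have hxz : x = z := (h.ctr x hx fun y hy => hxT y hy).resolve_left hx1
  subst hxz
  refine ⟨hx, ?_, hxT⟩
  have h2 := h.ctr (x * x) (mul_mem hx hx) (fun y hy => by
    rw [← mul_assoc, hxT y hy, mul_assoc, hxT y hy, mul_assoc])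
  rcases h2 with h2 | h2
  · exact h2
  · exact absurd (mul_left_cancel (h2.trans (mul_one x).symm)) hx1

/-- a Sylow 2-subgroup with its data -/
theorem exists_T : ∃ (T Q : Subgroup Spor.Fi24') (z : Spor.Fi24'), TwoLoc.TwoLoc T Q z ∧ z ∈ T ∧ z * z = 1 ∧
    (∀ t ∈ T, t * z = z * t) ∧ Nat.card (centralizer ({z} : Set Spor.Fi24')) = 160526499840 ∧
    thompsonSubgroupOf 2 T = Coco.AA ∧ Coco.AA ≤ T ∧ T ≤ normalizer (Coco.AA : Set Spor.Fi24') := by
  have : Finite Spor.Fi24 := Cfsg.Agent.R08.FiTwentyFour.finite_Fi24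
  have hL := H16.NunFi24.largeK KFacts.FiTF.frame
  obtain ⟨T, hT⟩ := TwoLoc.of_large hL (KFacts.FiTF.Abs.odd_index KFacts.FiTF.frame).not_two_dvd_nat
    (H565.LargeInv.isPGroup hL)
  have hc := KFacts.FiTF.Abs.card_CK KFacts.FiTF.frame
  rw [KFacts.FiTF.Order.card] at hc
  obtain ⟨g, hg1, hg2⟩ := JFi.exists_theta (MulEquiv.refl Spor.Fi24') (hT.two.toSylow hT.idx)
  set θ : Spor.Fi24' ≃* Spor.Fi24' := (MulEquiv.refl Spor.Fi24').trans (MulAut.conj g) with hθ
  have h' := hT.conj g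
  set z := KFacts.FiTF.Abs.zK KFacts.FiTF.frame with hz
  have hN : T.map (MulAut.conj g).toMonoidHom ≤ normalizer (Coco.AA : Set Spor.Fi24') := by
    rw [JFi.comap_normalizer] at hg1
    rintro _ ⟨x, hx, rfl⟩
    exact hg1 hx
  have hA : Coco.AA ≤ T.map (MulAut.conj g).toMonoidHom := by
    intro x hx
    obtain ⟨y, rfl⟩ := (MulAut.conj g).surjective x
    exact ⟨y, hg2.le hx, rfl⟩
  have hJ := (JFi.uniqN.mono hN hA).thompson_eq
  have hne : T.map (MulAut.conj g).toMonoidHom ≠ ⊥ := by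
    intro e
    have h1 := card_dvd_of_le hA
    rw [Coco.cardA, e, card_bot] at h1
    norm_num at h1
  obtain ⟨h1, h2, h3⟩ := z_data h' hne
  refine ⟨_, _, _, h', h1, h2, h3, ?_, hJ, hA, hN⟩
  rw [← H573.Hall.card_cent_of_isConj (isConj_iff.2 ⟨g, rfl⟩)]
  apply Nat.eq_of_mul_eq_mul_right (by norm_num : 0 < 2)
  exact hc

/-- the facts on Hall `{2,p}`-subgroups -/
theorem no_model {p : ℕ} (hp : p.Prime) (hp5 : 5 ≤ p) (hd : p ∣ Nat.card Spor.Fi24') :
    ¬ Dom ({2, p} : Set ℕ) Spor.Fi24' := by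
  obtain ⟨T, Q, z, hT, hzT, hzz, hzc, hc, hJ, hA, hN⟩ := exists_T
  have hI : ∀ b : ℕ, ¬ p ^ (b + 1) ∣ Nat.card Spor.Fi24' → (∀ k ∈ Finset.Icc 1 b, ¬ 2 ^ 7 ∣ p ^ k - 1) → b ≤ 3 →
      Inv1 2 p Spor.Fi24' := by
    intro b h1 h2 h3
    refine hT.inv1 (a := 21) (b := b) hp (by omega) (by rw [card_eq]; norm_num) h1 (fun _ => 6)
      (fun k h4 h5 => h2 k (Finset.mem_Icc.2 ⟨h4, h5⟩)) ?_
    rw [Finset.sum_const, Finset.card_range, smul_eq_mul]
    omega
  have hcN : Nat.card (normalizer (Coco.AA : Set Spor.Fi24')) = 2 ^ 11 * 244823040 := Coco.cardN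
  -- the general case
  have key : ∀ b m : ℕ, 1255205709190661721292800 = 2 ^ 21 * p ^ b * m → ¬ 2 ∣ m → ¬ p ∣ m → Inv1 2 p Spor.Fi24' →
      ¬ p ^ b ∣ 2 ^ 11 * 244823040 * 160526499840 → ¬ Dom ({2, p} : Set ℕ) Spor.Fi24' := by
    intro b m h1 h2 h3 h4 h5
    refine no_dom hp hp5 (card_eq.trans h1) h2 h3 h4 hT.two hT.idx hzT hzz hzc ?_
    rw [hJ, hcN, hc]
    exact h5
  -- the primes dividing the order of `M24`
  have key2 : ∀ b m : ℕ, (p = 5 ∨ p = 11 ∨ p = 23) → 1255205709190661721292800 = 2 ^ 21 * p ^ b * m → ¬ 2 ∣ m → ¬ p ∣ m →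
      Inv1 2 p Spor.Fi24' → ¬ p ^ 2 ∣ 2 ^ 11 * 244823040 → 1 ≤ b → ¬ p ^ b ∣ 160526499840 →
      ¬ Dom ({2, p} : Set ℕ) Spor.Fi24' := by
    intro b m hp' h1 h2 h3 h4 h5 hb1 h6 hD
    obtain ⟨N, C, j, i, hcN', hcC', hb, -, -, hTN, -, hCz, hNJ⟩ := dvd_mul hp hp5 (card_eq.trans h1) h2 h3 h4 hD hT.two
      hT.idx hzT hzz hzc
    rw [hJ] at hNJ
    have h7 := card_dvd_of_le hNJ
    have h8 := card_dvd_of_le hCz
    rw [hcN', hcN] at h7
    rw [hcC', hc] at h8
    have hj : j < 2 := by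
      by_contra h9
      exact h5 ((pow_dvd_pow p (by omega)).trans ((Nat.dvd_mul_left _ _).trans h7))
    have hi : i < b := by
      by_contra h9
      exact h6 ((pow_dvd_pow p (by omega)).trans ((Nat.dvd_mul_left _ _).trans h8))
    have hj1 : j = 1 := by omega
    subst hj1
    rw [pow_one] at hcN'
    -- the image in `M24`
    set N' := N.subgroupOf (normalizer (Coco.AA : Set Spor.Fi24')) with hN'
    have e1 : Nat.card N' = 2 ^ 21 * p := by
      rw [← hcN']
      exact Nat.card_congr (subgroupOfEquivOfLe hNJ).toEquiv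
    let f : N' →* M24 := Coco.ind.comp N'.subtype
    have e2 : Nat.card f.ker = 2 ^ 11 := by
      rw [← Coco.cardA]
      refine Nat.card_congr ⟨fun x => ⟨_, (Coco.ind_ker _).1 (MonoidHom.mem_ker.1 x.2)⟩,
        fun a => ⟨⟨⟨a, le_normalizer a.2⟩, hTN (hA a.2)⟩, MonoidHom.mem_ker.2 ((Coco.ind_ker _).2 a.2)⟩, fun x => rfl,
        fun a => rfl⟩
    have e3 : Nat.card f.range = 2 ^ 10 * p := by
      have h9 := f.ker.card_mul_index
      rw [index_ker, e1, e2] at h9
      apply Nat.eq_of_mul_eq_mul_left (by positivity : 0 < 2 ^ 11)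
      rw [h9]
      ring
    exact MTF.no_sub hp hp' e3
  have hfac : p = 5 ∨ p = 7 ∨ p = 11 ∨ p = 13 ∨ p = 17 ∨ p = 23 ∨ p = 29 := by
    rw [card_eq, show (1255205709190661721292800 : ℕ) = 2 ^ 21 * 3 ^ 16 * 5 ^ 2 * 7 ^ 3 * 11 * 13 * 17 * 23 * 29 by norm_num]
      at hd
    have hq : ∀ q : ℕ, q.Prime → p ∣ q → p = q := fun q hq h => (Nat.prime_dvd_prime_iff_eq hp hq).1 h
    rcases hp.dvd_mul.1 hd with hd | hd
    · rcases hp.dvd_mul.1 hd with hd | hd
      · rcases hp.dvd_mul.1 hd with hd | hd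
        · rcases hp.dvd_mul.1 hd with hd | hd
          · rcases hp.dvd_mul.1 hd with hd | hd
            · rcases hp.dvd_mul.1 hd with hd | hd
              · rcases hp.dvd_mul.1 hd with hd | hd
                · rcases hp.dvd_mul.1 hd with hd | hd
                  · have := hq 2 (by norm_num) (hp.dvd_of_dvd_pow hd)
                    omega
                  · have := hq 3 (by norm_num) (hp.dvd_of_dvd_pow hd)
                    omega
                · have := hq 5 (by norm_num) (hp.dvd_of_dvd_pow hd)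
                  omega
              · have := hq 7 (by norm_num) (hp.dvd_of_dvd_pow hd)
                omega
            · have := hq 11 (by norm_num) hd
              omega
          · have := hq 13 (by norm_num) hd
            omega
        · have := hq 17 (by norm_num) hd
          omega
      · have := hq 23 (by norm_num) hd
        omega
    · have := hq 29 (by norm_num) hd
      omega
  rcases hfac with rfl | rfl | rfl | rfl | rfl | rfl | rfl
  · exact key2 2 (1255205709190661721292800 / (2 ^ 21 * 5 ^ 2)) (by norm_num) (by norm_num) (by norm_num) (by norm_num)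
      (hI 2 (by rw [card_eq]; norm_num) (by decide +kernel) (by norm_num)) (by norm_num) (by norm_num) (by norm_num)
  · exact key 3 (1255205709190661721292800 / (2 ^ 21 * 7 ^ 3)) (by norm_num) (by norm_num) (by norm_num)
      (hI 3 (by rw [card_eq]; norm_num) (by decide +kernel) (by norm_num)) (by norm_num)
  · exact key2 1 (1255205709190661721292800 / (2 ^ 21 * 11)) (by norm_num) (by norm_num) (by norm_num) (by norm_num)
      (hI 1 (by rw [card_eq]; norm_num) (by decide +kernel) (by norm_num)) (by norm_num) (by norm_num) (by norm_num)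
  · exact key 1 (1255205709190661721292800 / (2 ^ 21 * 13)) (by norm_num) (by norm_num) (by norm_num)
      (hI 1 (by rw [card_eq]; norm_num) (by decide +kernel) (by norm_num)) (by norm_num)
  · exact key 1 (1255205709190661721292800 / (2 ^ 21 * 17)) (by norm_num) (by norm_num) (by norm_num)
      (hI 1 (by rw [card_eq]; norm_num) (by decide +kernel) (by norm_num)) (by norm_num)
  · exact key2 1 (1255205709190661721292800 / (2 ^ 21 * 23)) (by norm_num) (by norm_num) (by norm_num) (by norm_num)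
      (hI 1 (by rw [card_eq]; norm_num) (by decide +kernel) (by norm_num)) (by norm_num) (by norm_num) (by norm_num)
  · exact key 1 (1255205709190661721292800 / (2 ^ 21 * 29)) (by norm_num) (by norm_num) (by norm_num)
      (hI 1 (by rw [card_eq]; norm_num) (by decide +kernel) (by norm_num)) (by norm_num)

/-- **`Fi24'`** -/
theorem no2_fi24 {S : Type u} [Group S] [Finite S] (h : Spor.IsoFi24' S) {p : ℕ} (hp : p.Prime) (hp5 : 5 ≤ p)
    (hd : p ∣ Nat.card S) : ¬ Dom ({2, p} : Set ℕ) S := by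
  obtain ⟨e⟩ := h
  intro hD
  exact no_model hp hp5 (by rwa [← Nat.card_congr e.toEquiv]) (dom_congr e hD)

end Cfsg.Agent.H768.RV.FiTF
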