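import Cfsg.Agent.H768.RV.Fac
import Cfsg.Agent.H768.RV.Fi24

/-!
# Arbitrary Hall `{2,p}`-subgroups and Thompson factorization (helper768)

`exists_facH`, `dvd_mulH`, `no_hall` : as in `Fac`, for an arbitrary Hall `{2,p}`-subgroup (without `D_{2,p}`);
`no_hall_fi24_7` : `Fi24'` has no Hall `{2,7}`-subgroup.
-/

set_option autoImplicit false
set_option exponentiation.threshold 4000

namespace Cfsg.Agent.H768.RV

open Subgroup Cfsg Cfsg.Agent.H571.DExt Cfsg.Agent.H988.CPi Cfsg.Agent.H171.Odd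
open scoped Pointwise

universe u

variable {S : Type u} [Group S]

/-- **the factorization of a Hall `{2,p}`-subgroup** -/
theorem exists_facH [Finite S] {p a b m : ℕ} (hp : p.Prime) (hp5 : 5 ≤ p) (hS : Nat.card S = 2 ^ a * p ^ b * m)
    (h2 : ¬ 2 ∣ m) (hm : ¬ p ∣ m) (hI : Inv1 2 p S) {K0 : Subgroup S} (hK0 : IsPiHall ({2, p} : Set ℕ) K0) {T : Subgroup S}
    (hT2 : IsPGroup 2 T) (hTi : ¬ 2 ∣ T.index) :
    ∃ (K : Subgroup S) (y : S), K = MulAut.conj y • K0 ∧ Nat.card K = 2 ^ a * p ^ b ∧ IsPiHall ({2, p} : Set ℕ) K ∧ T ≤ K ∧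
      ∀ g ∈ K, ∃ c ∈ K, ∃ n ∈ K, g = c * n ∧ n ∈ normalizer (thompsonSubgroupOf 2 T : Set S) ∧
        ∀ z ∈ T, z * z = 1 → (∀ t ∈ T, t * z = z * t) → c * z = z * c := by
  have hp2 : p ≠ 2 := by omega
  have hfp : Fact p.Prime := ⟨hp⟩
  have hf2 : Fact (Nat.Prime 2) := ⟨Nat.prime_two⟩
  -- a conjugate containing `T`
  obtain ⟨g, hg⟩ : ∃ g : S, T ≤ MulAut.conj g • K0 := by
    obtain ⟨P⟩ : Nonempty (Sylow 2 K0) := inferInstance
    have hc := not_dvd_index_map (by simp) hK0 P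
    obtain ⟨g, hg⟩ := MulAction.exists_smul_eq S ((P.isPGroup'.map K0.subtype).toSylow hc) (hT2.toSylow hTi)
    refine ⟨g, ?_⟩
    have h1 : T = MulAut.conj g • ((P : Subgroup K0).map K0.subtype) := by
      have h3 := congrArg (fun X : Sylow 2 S => (X : Subgroup S)) hg
      exact h3.symm
    rw [h1]
    exact smul_mono_right _ (map_subtype_le _)
  set K : Subgroup S := MulAut.conj g • K0 with hKdef
  have hK : IsPiHall ({2, p} : Set ℕ) K := H988.CPi.isPiHall_smul hK0 g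
  have hcK := H555.RV.card_of_hall hp hp2 hS h2 hm hK
  have hsol : Group.IsSolvable K := S0144.result 2 p a b Nat.prime_two hp hcK
  -- `O_p(K) = 1`
  have hOp : pCore p K = ⊥ := by
    obtain ⟨T⟩ : Nonempty (Sylow 2 K) := inferInstance
    have h3 := hI ((T : Subgroup K).map K.subtype) (T.isPGroup'.map _)
      (not_dvd_index_map (by simp) hK T) ((pCore p K).map K.subtype)
      ((Lib.Cores.pCore_isPGroup p).map _) (by
        rintro x ⟨t, -, rfl⟩
        apply mem_normalizer_fintype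
        rintro y ⟨z, hz, rfl⟩
        exact ⟨t * z * t⁻¹, (Lib.Cores.pCore_normal p).conj_mem z hz t, by simp⟩)
    rwa [map_eq_bot_iff_of_injective _ (subtype_injective _)] at h3
  have hO2 : pPrimeCore 2 K = ⊥ := by
    have h3 := Lib.Cores.pPrimeCore_coprime (G := K) 2
    have h4 : Nat.card (pPrimeCore 2 K) ∣ p ^ b := by
      have h5 : Nat.card (pPrimeCore 2 K) ∣ 2 ^ a * p ^ b := by rw [← hcK]; exact card_subgroup_dvd_card _
      exact (Nat.Coprime.pow_right a h3).dvd_of_dvd_mul_left h5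
    have h5 : IsPGroup p (pPrimeCore 2 K) := by
      obtain ⟨k, -, hk⟩ := (Nat.dvd_prime_pow hp).1 h4
      exact IsPGroup.of_card hk
    have h6 := Lib.Cores.le_pCore (Lib.Cores.pPrimeCore_normal 2) h5
    rw [hOp] at h6
    exact le_bot_iff.1 h6
  have h3K : ¬ 3 ∣ Nat.card K := by
    rw [hcK]
    intro h
    rcases Nat.prime_three.dvd_mul.1 h with h | h
    · have := (Nat.prime_dvd_prime_iff_eq Nat.prime_three Nat.prime_two).1 (Nat.prime_three.dvd_of_dvd_pow h)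
      omega
    · have := (Nat.prime_dvd_prime_iff_eq Nat.prime_three hp).1 (Nat.prime_three.dvd_of_dvd_pow h)
      omega
  have hfac := fac_of_solvable h3K hO2
  refine ⟨K, g, rfl, hcK, hK, hg, fun x hx => ?_⟩
  have hle : ((hT2.toSylow hTi : Sylow 2 S) : Subgroup S) ≤ K := hg
  have hTS : (((hT2.toSylow hTi).subtype hle : Sylow 2 K) : Subgroup K) = T.subgroupOf K := rfl
  obtain ⟨o, ho, c, hc, n, hn, e⟩ := hfac ((hT2.toSylow hTi).subtype hle) ⟨x, hx⟩
  rw [hTS] at hc hn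
  rw [hO2, mem_bot] at ho
  rw [ho, one_mul] at e
  refine ⟨c, c.2, n, n.2, congrArg Subtype.val e, ?_, ?_⟩
  · have hJ : thompsonSubgroupOf 2 T = (thompsonSubgroupOf 2 (T.subgroupOf K)).map K.subtype := by
      rw [← PLocal.ThompsonJ.thompsonSubgroupOf_map 2 K.subtype_injective, subgroupOf_map_subtype, inf_eq_left.2 hg]
    rw [hJ]
    apply mem_normalizer_fintype
    rintro y ⟨z, hz, rfl⟩
    exact ⟨n * z * n⁻¹, (mem_normalizer_iff.1 hn z).1 hz, by simp⟩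
  · intro z hz hzz hzc
    have h1 : (⟨z, hg hz⟩ : K) ∈ omegaOne 2 (T.subgroupOf K ⊓ centralizer (T.subgroupOf K : Set K)) := by
      apply Subgroup.subset_closure
      refine ⟨⟨hz, ?_⟩, Subtype.ext (by rw [coe_pow, pow_two]; exact hzz)⟩
      show (⟨z, hg hz⟩ : K) ∈ centralizer (T.subgroupOf K : Set K)
      rw [mem_centralizer_iff]
      intro t ht
      exact Subtype.ext (hzc t ht)
    exact (congrArg Subtype.val (mem_centralizer_iff.1 hc _ h1)).symm

/-- the `p`-part -/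
theorem dvd_mulH [Finite S] {p a b m : ℕ} (hp : p.Prime) (hp5 : 5 ≤ p) (hS : Nat.card S = 2 ^ a * p ^ b * m)
    (h2 : ¬ 2 ∣ m) (hm : ¬ p ∣ m) (hI : Inv1 2 p S) {K0 : Subgroup S} (hK0 : IsPiHall ({2, p} : Set ℕ) K0) {T : Subgroup S}
    (hT2 : IsPGroup 2 T) (hTi : ¬ 2 ∣ T.index) {z : S} (hz : z ∈ T) (hzz : z * z = 1) (hzc : ∀ t ∈ T, t * z = z * t) :
    ∃ K N C : Subgroup S, ∃ y : S, ∃ j i : ℕ, K = MulAut.conj y • K0 ∧ N ≤ K ∧ C ≤ K ∧ Nat.card N = 2 ^ a * p ^ j ∧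
      Nat.card C = 2 ^ a * p ^ i ∧ b ≤ j + i ∧
      j ≤ b ∧ i ≤ b ∧ T ≤ N ∧ T ≤ C ∧ C ≤ centralizer {z} ∧ N ≤ normalizer (thompsonSubgroupOf 2 T : Set S) := by
  have hfp : Fact p.Prime := ⟨hp⟩
  have hf2 : Fact (Nat.Prime 2) := ⟨Nat.prime_two⟩
  obtain ⟨K, y, hKy, hcK, hK, hTK, hf⟩ := exists_facH hp hp5 hS h2 hm hI hK0 hT2 hTi
  set N : Subgroup S := K ⊓ normalizer (thompsonSubgroupOf 2 T : Set S) with hN
  set C : Subgroup S := K ⊓ centralizer {z} with hC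
  have hTN : T ≤ N := le_inf hTK (by
    intro t ht
    apply mem_normalizer_fintype
    rintro y ⟨w, hw, rfl⟩
    have h1 : (thompsonSubgroup 2 T).Characteristic := S0602.result.1
    have h2 : (thompsonSubgroup 2 T).Normal := inferInstance
    exact ⟨⟨t, ht⟩ * w * ⟨t, ht⟩⁻¹, h2.conj_mem w hw _, by simp⟩)
  have hTC : T ≤ C := le_inf hTK fun t ht => mem_centralizer_singleton_iff.2 (hzc t ht)
  have ha : Nat.card T = 2 ^ a := by
    obtain ⟨k, hk⟩ := hT2.exists_card_eq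
    have h1 := card_mul_index T
    rw [hk, hS] at h1
    have h5 : ¬ 2 ∣ p ^ b * m := by
      intro h
      rcases Nat.prime_two.dvd_mul.1 h with h | h
      · have := (Nat.prime_dvd_prime_iff_eq Nat.prime_two hp).1 (Nat.prime_two.dvd_of_dvd_pow h)
        omega
      · exact h2 h
    have h6 : Nat.Coprime (2 ^ k) (p ^ b * m) := (Nat.Prime.coprime_pow_of_not_dvd Nat.prime_two h5).symm
    have h7 : Nat.Coprime (2 ^ a) T.index := (Nat.Prime.coprime_pow_of_not_dvd Nat.prime_two hTi).symm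
    rw [hk]
    apply Nat.dvd_antisymm
    · exact h6.dvd_of_dvd_mul_right (by rw [← mul_assoc, ← h1]; exact Nat.dvd_mul_right _ _)
    · exact h7.dvd_of_dvd_mul_right (by rw [h1, mul_assoc]; exact Nat.dvd_mul_right _ _)
  -- the orders
  have key : ∀ X : Subgroup S, X ≤ K → T ≤ X → ∃ j, j ≤ b ∧ Nat.card X = 2 ^ a * p ^ j := by
    intro X hX hTX
    obtain ⟨r, hr⟩ := card_dvd_of_le hTX
    have h1 := card_dvd_of_le hX
    rw [hcK, hr, ha] at h1
    obtain ⟨j, hj, hj2⟩ := (Nat.dvd_prime_pow hp).1 (Nat.dvd_of_mul_dvd_mul_left (by positivity) h1)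
    exact ⟨j, hj, by rw [hr, ha, hj2]⟩
  obtain ⟨j, hj, hjN⟩ := key N inf_le_left hTN
  obtain ⟨i, hi, hiC⟩ := key C inf_le_left hTC
  refine ⟨K, N, C, y, j, i, hKy, inf_le_left, inf_le_left, hjN, hiC, ?_, hj, hi, hTN, hTC, inf_le_right, inf_le_right⟩
  have h1 : Nat.card K ≤ Nat.card ((↥C ⧸ T.subgroupOf C) × N) := by
    refine Nat.card_le_card_of_surjective
      (fun x : (↥C ⧸ T.subgroupOf C) × N => (⟨(x.1.out : S) * x.2, K.mul_mem x.1.out.2.1 x.2.2.1⟩ : K)) ?_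
    rintro ⟨x, hx⟩
    obtain ⟨c, hc, n, hn, e, hnJ, hcz⟩ := hf x hx
    obtain ⟨t, ht⟩ := QuotientGroup.mk_out_eq_mul (T.subgroupOf C)
      (⟨c, hc, mem_centralizer_singleton_iff.2 (hcz z hz hzz hzc)⟩ : C)
    have htT : ((t : C) : S) ∈ T := t.2
    refine ⟨(QuotientGroup.mk ⟨c, hc, mem_centralizer_singleton_iff.2 (hcz z hz hzz hzc)⟩,
      ⟨((t : C) : S)⁻¹ * n, mul_mem (inv_mem (hTN htT)) ⟨hn, hnJ⟩⟩), Subtype.ext ?_⟩
    have h3 := congrArg Subtype.val ht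
    show ((QuotientGroup.mk (⟨c, hc, mem_centralizer_singleton_iff.2 (hcz z hz hzz hzc)⟩ : C) :
      ↥C ⧸ T.subgroupOf C).out : S) * (((t : C) : S)⁻¹ * n) = x
    rw [h3, e]
    show c * ((t : C) : S) * (((t : C) : S)⁻¹ * n) = c * n
    group
  have h3 : Nat.card (↥C ⧸ T.subgroupOf C) = p ^ i := by
    have h4 := card_mul_index (T.subgroupOf C)
    rw [Nat.card_congr (subgroupOfEquivOfLe hTC).toEquiv, ha, hiC] at h4
    exact Nat.eq_of_mul_eq_mul_left (by positivity) h4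
  rw [Nat.card_prod, h3, hjN, hcK] at h1
  have h4 : p ^ b ≤ p ^ (j + i) := by
    apply Nat.le_of_mul_le_mul_left (c := 2 ^ a) _ (by positivity)
    calc 2 ^ a * p ^ b ≤ p ^ i * (2 ^ a * p ^ j) := h1
      _ = 2 ^ a * p ^ (j + i) := by rw [pow_add]; ring
  exact (Nat.pow_le_pow_iff_right hp.one_lt).1 h4

/-- **numerical criterion** -/
theorem no_hall [Finite S] {p a b m : ℕ} (hp : p.Prime) (hp5 : 5 ≤ p) (hS : Nat.card S = 2 ^ a * p ^ b * m)
    (h2 : ¬ 2 ∣ m) (hm : ¬ p ∣ m) (hI : Inv1 2 p S) {T : Subgroup S} (hT2 : IsPGroup 2 T) (hTi : ¬ 2 ∣ T.index) {z : S}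
    (hz : z ∈ T) (hzz : z * z = 1) (hzc : ∀ t ∈ T, t * z = z * t)
    (h : ¬ p ^ b ∣ Nat.card (normalizer (thompsonSubgroupOf 2 T : Set S)) * Nat.card (centralizer ({z} : Set S)))
    (H : Subgroup S) : ¬ IsPiHall ({2, p} : Set ℕ) H := by
  intro hH
  obtain ⟨K, N, C, -, j, i, -, -, -, hN, hC, hb, -, -, -, -, hCz, hNJ⟩ := dvd_mulH hp hp5 hS h2 hm hI hH hT2 hTi hz hzz hzc
  apply h
  have h1 : p ^ j ∣ Nat.card (normalizer (thompsonSubgroupOf 2 T : Set S)) :=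
    (Dvd.intro_left _ hN.symm).trans (card_dvd_of_le hNJ)
  have h3 : p ^ i ∣ Nat.card (centralizer ({z} : Set S)) := (Dvd.intro_left _ hC.symm).trans (card_dvd_of_le hCz)
  exact (pow_dvd_pow p hb).trans (by rw [pow_add]; exact mul_dvd_mul h1 h3)

/-- transport of Hall subgroups -/
theorem hall_map {π : Set ℕ} {G H : Type*} [Group G] [Group H] (e : G ≃* H) {L : Subgroup G} (hL : IsPiHall π L) :
    IsPiHall π (L.map e.toMonoidHom) := by
  refine ⟨?_, ?_⟩
  · intro p hp hd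
    rw [card_map_of_injective (f := e.toMonoidHom) e.injective] at hd
    exact hL.1 p hp hd
  · intro p hp hpπ hd
    rw [index_map_of_bijective e.bijective] at hd
    exact hL.2 p hp hpπ hd

open Cfsg.Agent.H827 in
/-- `Fi24'` has no Hall `{2,p}`-subgroup, `p = 7, 13, 17, 29` -/
theorem no_hall_fi24 {S : Type u} [Group S] (h : Spor.IsoFi24' S) {p : ℕ} (hp : p = 7 ∨ p = 13 ∨ p = 17 ∨ p = 29)
    (H : Subgroup S) : ¬ IsPiHall ({2, p} : Set ℕ) H := by
  intro hH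
  obtain ⟨e⟩ := h
  replace hH := hall_map e hH
  obtain ⟨T, Q, z, hT, hzT, hzz, hzc, hc, hJ, hA, hN⟩ := FiTF.exists_T
  have hpp : p.Prime := by rcases hp with rfl | rfl | rfl | rfl <;> norm_num
  have hI : ∀ b : ℕ, ¬ p ^ (b + 1) ∣ Nat.card Spor.Fi24' → (∀ k ∈ Finset.Icc 1 b, ¬ 2 ^ 7 ∣ p ^ k - 1) → b ≤ 3 →
      Inv1 2 p Spor.Fi24' := by
    intro b h1 h2 h3
    refine hT.inv1 (a := 21) (b := b) hpp (by omega) (by rw [FiTF.card_eq]; norm_num) h1 (fun _ => 6)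
      (fun k h4 h5 => h2 k (Finset.mem_Icc.2 ⟨h4, h5⟩)) ?_
    rw [Finset.sum_const, Finset.card_range, smul_eq_mul]
    omega
  have hcN : Nat.card (normalizer (Coco.AA : Set Spor.Fi24')) = 2 ^ 11 * 244823040 := Coco.cardN
  have key : ∀ b m : ℕ, 1255205709190661721292800 = 2 ^ 21 * p ^ b * m → ¬ 2 ∣ m → ¬ p ∣ m → Inv1 2 p Spor.Fi24' →
      ¬ p ^ b ∣ 2 ^ 11 * 244823040 * 160526499840 → False := by
    intro b m h1 h2 h3 h4 h5
    refine no_hall hpp (by omega) (FiTF.card_eq.trans h1) h2 h3 h4 hT.two hT.idx hzT hzz hzc ?_ _ hH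
    rw [hJ, hcN, hc]
    exact h5
  rcases hp with rfl | rfl | rfl | rfl
  · exact key 3 (1255205709190661721292800 / (2 ^ 21 * 7 ^ 3)) (by norm_num) (by norm_num) (by norm_num)
      (hI 3 (by rw [FiTF.card_eq]; norm_num) (by decide +kernel) (by norm_num)) (by norm_num)
  · exact key 1 (1255205709190661721292800 / (2 ^ 21 * 13)) (by norm_num) (by norm_num) (by norm_num)
      (hI 1 (by rw [FiTF.card_eq]; norm_num) (by decide +kernel) (by norm_num)) (by norm_num)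
  · exact key 1 (1255205709190661721292800 / (2 ^ 21 * 17)) (by norm_num) (by norm_num) (by norm_num)
      (hI 1 (by rw [FiTF.card_eq]; norm_num) (by decide +kernel) (by norm_num)) (by norm_num)
  · exact key 1 (1255205709190661721292800 / (2 ^ 21 * 29)) (by norm_num) (by norm_num) (by norm_num)
      (hI 1 (by rw [FiTF.card_eq]; norm_num) (by decide +kernel) (by norm_num)) (by norm_num)

end Cfsg.Agent.H768.RV
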